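import Groth.Agent.RelFrob7.Expand
import Groth.Agent.FrobAlg53.RelFrobEtale
import Mathlib.RingTheory.RingHom.LocallyStandardSmooth
import Mathlib.RingTheory.RingHom.Flat
import Mathlib.RingTheory.MvPolynomial.Expand

/-!
Flatness of the relative Frobenius of a smooth algebra.
-/

set_option autoImplicit false
universe u v w w'

open scoped TensorProduct
open FrobAlg

namespace Groth.Agent.RelFrob7

open Groth.Agent.FrobAlg53 (relFrob_tmul)

variable (p : ℕ) [Fact p.Prime] (A : Type u) [CommRing A] [CharP A p]

/-- The map of Frobenius twists induced by an algebra map. -/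
noncomputable def twistMap {B : Type v} [CommRing B] [Algebra A B] {C : Type w} [CommRing C]
    [Algebra A C] (ψ : B →ₐ[A] C) : BaseChange p A B →ₐ[A] BaseChange p A C :=
  Algebra.TensorProduct.map ψ (AlgHom.id A (Twist p A))

theorem relFrob_twistMap {B : Type v} [CommRing B] [Algebra A B] [CharP B p] {C : Type w}
    [CommRing C] [Algebra A C] [CharP C p] (ψ : B →ₐ[A] C) (x : BaseChange p A B) :
    relFrob p A C (twistMap p A ψ x) = ψ (relFrob p A B x) := by
  induction x using TensorProduct.induction_on with
  | zero => simp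
  | tmul b t =>
    simp only [twistMap, Algebra.TensorProduct.map_tmul, relFrob_tmul, map_mul, map_pow, AlgHom.commutes]
    rfl
  | add x y hx hy => simp only [map_add, hx, hy]

theorem twistMap_flat {B : Type v} [CommRing B] [Algebra A B] {C : Type v} [CommRing C]
    [Algebra A C] (ψ : B →ₐ[A] C) (hψ : ψ.toRingHom.Flat) : (twistMap p A ψ).toRingHom.Flat := by
  letI := ψ.toRingHom.toAlgebra
  haveI : IsScalarTower A B C := IsScalarTower.of_algebraMap_eq' ψ.comp_algebraMap.symm
  haveI : Module.Flat B C := hψ
  letI := (twistMap p A ψ).toRingHom.toAlgebra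
  haveI : IsScalarTower B (BaseChange p A B) (BaseChange p A C) :=
    IsScalarTower.of_algebraMap_eq' (RingHom.ext fun b => by
      change (ψ b) ⊗ₜ[A] (1 : Twist p A) = twistMap p A ψ (b ⊗ₜ 1)
      simp [twistMap])
  have hpo : Algebra.IsPushout B C (BaseChange p A B) (BaseChange p A C) := by
    constructor
    refine IsBaseChange.of_equiv
      (TensorProduct.AlgebraTensorModule.cancelBaseChange A B C C (Twist p A)) fun z => ?_
    induction z using TensorProduct.induction_on with
    | zero => simp
    | tmul b t =>
      rw [TensorProduct.AlgebraTensorModule.cancelBaseChange_tmul]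
      change (b • (1 : C)) ⊗ₜ[A] t = twistMap p A ψ (b ⊗ₜ t)
      simp [twistMap, Algebra.smul_def]
      rfl
    | add x y hx hy => simp only [TensorProduct.tmul_add, map_add, hx, hy]
  change Module.Flat (BaseChange p A B) (BaseChange p A C)
  exact Module.Flat.isBaseChange B (BaseChange p A B) C (BaseChange p A C) hpo.symm.out

theorem flat_relFrob_mvPolynomial (n : ℕ) [CharP (MvPolynomial (Fin n) A) p] :
    (relFrob p A (MvPolynomial (Fin n) A)).Flat := by
  have hp := (Fact.out : p.Prime).ne_zero
  let P := MvPolynomial (Fin n) A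
  let e : BaseChange p A P ≃+* MvPolynomial (Fin n) A :=
    ((Algebra.TensorProduct.comm A P (Twist p A)).trans
      ((MvPolynomial.algebraTensorAlgEquiv A (Twist p A) (σ := Fin n)).restrictScalars A)).toRingEquiv.trans
        (MvPolynomial.mapEquiv (Fin n) (toTwist p A).symm)
  have h : relFrob p A P = (MvPolynomial.expand p).toRingHom.comp e.toRingHom := by
    refine RingHom.ext fun x => ?_
    induction x using TensorProduct.induction_on with
    | zero => simp
    | tmul b t =>
      rw [relFrob_tmul]
      change _ = MvPolynomial.expand p (e (b ⊗ₜ t))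
      have he : e (b ⊗ₜ t) = MvPolynomial.C ((toTwist p A).symm t) *
          MvPolynomial.map (frobenius A p) b := by
        simp only [e, RingEquiv.trans_apply, AlgEquiv.coe_ringEquiv, AlgEquiv.trans_apply,
          AlgEquiv.restrictScalars_apply, Algebra.TensorProduct.comm_tmul,
          MvPolynomial.mapEquiv_apply]
        erw [MvPolynomial.algebraTensorAlgEquiv_tmul]
        rw [MvPolynomial.smul_eq_C_mul, map_mul, MvPolynomial.map_C, MvPolynomial.map_map]
        rfl
      rw [he, map_mul, MvPolynomial.expand_C, ← MvPolynomial.map_expand, MvPolynomial.map_frobenius_expand,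
        mul_comm]
      rfl
    | add x y hx hy => simp only [map_add, hx, hy]
  rw [h]
  exact RingHom.Flat.stableUnderComposition _ _ (RingHom.Flat.of_bijective e.bijective) (flat_expand hp)

/-- A bijective ring map is flat, in any universes. -/
theorem flat_of_bijective {R : Type w} {S : Type w'} [CommRing R] [CommRing S] {f : R →+* S}
    (hf : Function.Bijective f) : f.Flat := by
  algebraize [f]
  exact Module.Flat.of_linearEquiv (LinearEquiv.ofBijective (Algebra.linearMap R S) hf).symm

variable (B : Type v) [CommRing B] [Algebra A B] [CharP B p]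

/-- Flatness of the relative Frobenius ascends along étale maps. -/
theorem flat_relFrob_of_etale (P : Type u) [CommRing P] [Algebra A P] [CharP P p]
    (hP : (relFrob p A P).Flat) [Algebra P B] [IsScalarTower A P B] [Algebra.Etale P B] :
    (relFrob p A B).Flat := by
  let ψ := IsScalarTower.toAlgHom A P B
  letI algP : Algebra (BaseChange p A P) (Target p A P) :=
    ((FrobAlg.toTarget p A P).toRingHom.comp (relFrob p A P)).toAlgebra
  haveI : Module.Flat (BaseChange p A P) (Target p A P) :=
    RingHom.Flat.stableUnderComposition _ _ hP (RingHom.Flat.of_bijective (FrobAlg.toTarget p A P).bijective)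
  letI algC : Algebra (BaseChange p A P) (BaseChange p A B) := (twistMap p A ψ).toRingHom.toAlgebra
  letI algB : Algebra (BaseChange p A P) (Target p A B) :=
    ((FrobAlg.toTarget p A B).toRingHom.comp (ψ.toRingHom.comp (relFrob p A P))).toAlgebra
  haveI : IsScalarTower (BaseChange p A P) (BaseChange p A P) (BaseChange p A B) :=
    IsScalarTower.of_algebraMap_eq' rfl
  let g₁ : BaseChange p A B →ₐ[BaseChange p A P] Target p A B :=
    { (FrobAlg.toTarget p A B).toRingHom.comp (relFrob p A B) with
      commutes' := fun x => congrArg (FrobAlg.toTarget p A B) (relFrob_twistMap p A ψ x) }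
  let g₂ : Target p A P →ₐ[BaseChange p A P] Target p A B :=
    { (FrobAlg.toTarget p A B).toRingHom.comp
        (ψ.toRingHom.comp (FrobAlg.toTarget p A P).symm.toRingHom) with commutes' := fun _ => rfl }
  let g₀ := Algebra.TensorProduct.lift g₁ g₂ fun _ _ => Commute.all _ _
  let g : (BaseChange p A B) ⊗[BaseChange p A P] (Target p A P) →+* B :=
    (FrobAlg.toTarget p A B).symm.toRingHom.comp g₀.toRingHom
  have hg : Function.Bijective g := by
    let Q := (BaseChange p A B) ⊗[BaseChange p A P] (Target p A P)
    let f : B →+ Twist p P →+ Q := AddMonoidHom.mk'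
      (fun c => AddMonoidHom.mk'
        (fun t => ((c ⊗ₜ[A] (1 : Twist p A)) ⊗ₜ[BaseChange p A P] FrobAlg.toTarget p A P ((toTwist p P).symm t) : Q))
        (fun t t' => by rw [map_add, map_add, TensorProduct.tmul_add]))
      (fun c c' => by
        ext t
        simp [TensorProduct.add_tmul])
    let J : BaseChange p P B →+ Q := TensorProduct.liftAddHom f fun x c t => by
      change ((x • c) ⊗ₜ[A] (1 : Twist p A)) ⊗ₜ[BaseChange p A P] FrobAlg.toTarget p A P ((toTwist p P).symm t) =
        (c ⊗ₜ[A] (1 : Twist p A)) ⊗ₜ[BaseChange p A P] FrobAlg.toTarget p A P ((toTwist p P).symm (x • t))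
      have e1 : (x • c) ⊗ₜ[A] (1 : Twist p A) = (x ⊗ₜ[A] (1 : Twist p A) : BaseChange p A P) •
          (c ⊗ₜ[A] (1 : Twist p A) : BaseChange p A B) := by
        rw [Algebra.smul_def, Algebra.smul_def]
        change _ = twistMap p A ψ (x ⊗ₜ 1) * (c ⊗ₜ 1)
        simp [twistMap, ψ]
      rw [e1, TensorProduct.smul_tmul]
      congr 1
      rw [Algebra.smul_def, Algebra.smul_def]
      change FrobAlg.toTarget p A P (relFrob p A P (x ⊗ₜ 1)) * _ = _
      rw [← map_mul, relFrob_tmul, algebraMap_twist]
      simp
    have hJ : Function.Surjective J := by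
      intro q
      induction q using TensorProduct.induction_on with
      | zero => exact ⟨0, map_zero J⟩
      | add x y hx hy =>
        obtain ⟨a, ha⟩ := hx
        obtain ⟨b, hb⟩ := hy
        exact ⟨a + b, by rw [map_add, ha, hb]⟩
      | tmul z q =>
        obtain ⟨q, rfl⟩ := (FrobAlg.toTarget p A P).surjective q
        induction z using TensorProduct.induction_on with
        | zero => exact ⟨0, by rw [map_zero, TensorProduct.zero_tmul]⟩
        | add x y hx hy =>
          obtain ⟨a, ha⟩ := hx
          obtain ⟨b, hb⟩ := hy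
          exact ⟨a + b, by rw [map_add, ha, hb, TensorProduct.add_tmul]⟩
        | tmul c t =>
          refine ⟨c ⊗ₜ[P] toTwist p P (relFrob p A P (1 ⊗ₜ t) * q), ?_⟩
          change (c ⊗ₜ[A] (1 : Twist p A)) ⊗ₜ[BaseChange p A P]
            FrobAlg.toTarget p A P ((toTwist p P).symm (toTwist p P (relFrob p A P (1 ⊗ₜ t) * q))) = _
          rw [RingEquiv.symm_apply_apply, map_mul]
          change (c ⊗ₜ[A] (1 : Twist p A)) ⊗ₜ[BaseChange p A P]
            ((1 ⊗ₜ t : BaseChange p A P) • FrobAlg.toTarget p A P q) = _
          rw [← TensorProduct.smul_tmul, Algebra.smul_def]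
          congr 1
          change twistMap p A ψ (1 ⊗ₜ t) * (c ⊗ₜ 1) = _
          simp [twistMap]
    have hgJ : ∀ z, g (J z) = relFrob p P B z := by
      intro z
      induction z using TensorProduct.induction_on with
      | zero => simp
      | add x y hx hy => simp only [map_add, hx, hy]
      | tmul c t =>
        change g ((c ⊗ₜ[A] (1 : Twist p A)) ⊗ₜ[BaseChange p A P] FrobAlg.toTarget p A P ((toTwist p P).symm t)) = _
        change relFrob p A B (c ⊗ₜ 1) * ψ ((FrobAlg.toTarget p A P).symm (FrobAlg.toTarget p A P _)) = _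
        rw [relFrob_tmul, relFrob_tmul, RingEquiv.symm_apply_apply, map_one, map_one, mul_one]
        rfl
    have hb := FrobAlg53.bijective_relFrob_of_etale p P B
    refine ⟨fun a b hab => ?_, fun y => ?_⟩
    · obtain ⟨a, rfl⟩ := hJ a
      obtain ⟨b, rfl⟩ := hJ b
      rw [hgJ, hgJ] at hab
      rw [hb.1 hab]
    · obtain ⟨z, hz⟩ := hb.2 y
      exact ⟨J z, by rw [hgJ, hz]⟩
  have : (g.comp (Algebra.TensorProduct.includeLeftRingHom)) = relFrob p A B := by
    refine RingHom.ext fun x => ?_
    change (FrobAlg.toTarget p A B).symm (g₀ (x ⊗ₜ 1)) = _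
    rw [Algebra.TensorProduct.lift_tmul, map_one, mul_one]
    rfl
  rw [← this]
  refine RingHom.Flat.comp ?_ (flat_of_bijective hg)
  change RingHom.Flat (algebraMap (BaseChange p A B) ((BaseChange p A B) ⊗[BaseChange p A P] (Target p A P)))
  exact RingHom.flat_algebraMap_iff.2 inferInstance

theorem flat_relFrob_of_smooth [Algebra.Smooth A B] : (relFrob p A B).Flat := by
  obtain ⟨s, hs, hss⟩ := Algebra.Smooth.exists_span_eq_top_isStandardSmooth A B
  suffices H : ∀ b ∈ s, ((algebraMap B (Localization.Away b)).comp (relFrob p A B)).Flat by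
    letI := (relFrob p A B).toAlgebra
    refine Module.flat_of_isLocalized_span _ _ s hs _
      (fun r ↦ Algebra.linearMap B <| Localization.Away r.1) fun r => ?_
    have h := H r.1 r.2
    dsimp only [RingHom.Flat] at h
    convert! h; ext
    apply Algebra.smul_def
  intro b hb
  let L := Localization.Away b
  let ψ := IsScalarTower.toAlgHom A B L
  change (ψ.toRingHom.comp (relFrob p A B)).Flat
  rcases subsingleton_or_nontrivial L with hL | hL
  · letI := (ψ.toRingHom.comp (relFrob p A B)).toAlgebra
    change Module.Flat (BaseChange p A B) L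
    infer_instance
  have : CharP L p := (CharP.charP_iff_prime_eq_zero Fact.out).2 (by
    rw [← map_natCast (algebraMap A L), CharP.cast_eq_zero, map_zero])
  obtain ⟨n, g, hgC, hg⟩ :=
    RingHom.IsStandardSmooth.exists_etale_mvPolynomial (RingHom.isStandardSmooth_algebraMap.2 (hss b hb))
  have hL' : (relFrob p A L).Flat := by
    letI := g.toAlgebra
    haveI : IsScalarTower A (MvPolynomial (Fin n) A) L := IsScalarTower.of_algebraMap_eq' hgC.symm
    haveI : Algebra.Etale (MvPolynomial (Fin n) A) L := hg
    exact flat_relFrob_of_etale p A L (MvPolynomial (Fin n) A) (flat_relFrob_mvPolynomial p A n)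
  rw [show ψ.toRingHom.comp (relFrob p A B) = (relFrob p A L).comp (twistMap p A ψ).toRingHom from
    RingHom.ext fun x => (relFrob_twistMap p A ψ x).symm]
  exact RingHom.Flat.comp
    (twistMap_flat p A ψ (RingHom.flat_algebraMap_iff.2 (IsLocalization.flat L (Submonoid.powers b)))) hL'

end Groth.Agent.RelFrob7
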