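import Mathlib.Algebra.MvPolynomial.Expand
import Mathlib.RingTheory.MvPolynomial.Basic
import Mathlib.RingTheory.Flat.Basic
import Mathlib.RingTheory.RingHom.Flat

/-!
The substitution `X ↦ X ^ p` on polynomial rings is free, hence flat.
-/

set_option autoImplicit false
universe u v

open MvPolynomial

namespace Groth.Agent.RelFrob7

variable {σ : Type v} [Finite σ] {R : Type u} [CommRing R] {p : ℕ}

omit [Finite σ] in
lemma coeff_expand_mul_monomial (hp : p ≠ 0) (c : MvPolynomial σ R) (a b : σ →₀ ℕ) (m : σ →₀ ℕ)
    (ha : ∀ i, a i < p) (hb : ∀ i, b i < p) :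
    (a = b → coeff (p • m + b) (expand p c * monomial a 1) = coeff m c) ∧
      (a ≠ b → coeff (p • m + b) (expand p c * monomial a 1) = 0) := by
  classical
  rw [coeff_mul_monomial']
  refine ⟨fun hab => ?_, fun hab => ?_⟩ <;> split_ifs with hle
  · subst hab
    rw [add_tsub_cancel_right, coeff_expand_smul p hp, mul_one]
  · subst hab
    exact absurd le_add_self hle
  · obtain ⟨i, hi⟩ : ∃ i, a i ≠ b i := by
      by_contra hh
      push Not at hh
      exact hab (Finsupp.ext hh)
    rw [coeff_expand_of_not_dvd (p := p) (i := i) _ ?_, zero_mul]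
    intro hd
    simp only [Finsupp.tsub_apply, Finsupp.add_apply, Finsupp.smul_apply, smul_eq_mul] at hd
    have hlei : a i ≤ p * m i + b i := by simpa using hle i
    obtain ⟨q, hq⟩ := hd
    have h1 : p * m i + b i = p * q + a i := by omega
    have h2 := congrArg (· % p) h1
    simp only [Nat.mul_add_mod, Nat.mod_eq_of_lt (ha i), Nat.mod_eq_of_lt (hb i)] at h2
    exact hi h2.symm
  · rfl

/-- The polynomial ring, as a module over itself through `X ↦ X ^ p`. -/
def ExpandTarget (σ : Type v) (R : Type u) [CommRing R] (_p : ℕ) : Type (max u v) := MvPolynomial σ R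

noncomputable instance : CommRing (ExpandTarget σ R p) := inferInstanceAs (CommRing (MvPolynomial σ R))

/-- The identity. -/
noncomputable def toTarget : MvPolynomial σ R ≃+* ExpandTarget σ R p := RingEquiv.refl _

noncomputable instance : Algebra (MvPolynomial σ R) (ExpandTarget σ R p) :=
  ((toTarget (p := p)).toRingHom.comp (expand p (R := R) (σ := σ)).toRingHom).toAlgebra

/-- The substitution `X ↦ X ^ p` is flat. -/
theorem flat_expand (hp : p ≠ 0) : (expand p (R := R) (σ := σ)).toRingHom.Flat := by
  classical
  let P := MvPolynomial σ R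
  let Q := ExpandTarget σ R p
  let τ : P ≃+* Q := toTarget (σ := σ) (R := R) (p := p)
  let e : (σ → Fin p) → (σ →₀ ℕ) := fun d => Finsupp.equivFunOnFinite.symm fun i => (d i : ℕ)
  have he : ∀ d i, e d i = (d i : ℕ) := fun d i => rfl
  let v : (σ → Fin p) → Q := fun d => τ (monomial (e d) 1)
  let L : ((σ → Fin p) →₀ P) →ₗ[P] Q := Finsupp.linearCombination P v
  have hL : ∀ l, τ.symm (L l) = l.sum fun d c => expand p c * monomial (e d) 1 := fun l => by
    simp only [L, Finsupp.linearCombination_apply, Finsupp.sum, map_sum, Algebra.smul_def, map_mul]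
    rfl
  have hinj : Function.Injective L := by
    rw [injective_iff_map_eq_zero]
    intro l hl
    ext d m
    rw [Finsupp.coe_zero, Pi.zero_apply, coeff_zero]
    have h0 := congrArg (fun z => coeff (p • m + e d) (τ.symm z)) hl
    simp only [map_zero, coeff_zero, hL, Finsupp.sum] at h0
    rw [MvPolynomial.coeff_sum] at h0
    rw [Finset.sum_eq_single d] at h0
    · rwa [(coeff_expand_mul_monomial hp _ _ _ _ (fun i => by rw [he]; exact (d i).2)
        (fun i => by rw [he]; exact (d i).2)).1 rfl] at h0
    · intro d' _ hd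
      refine (coeff_expand_mul_monomial hp _ _ _ _ (fun i => by rw [he]; exact (d' i).2)
        (fun i => by rw [he]; exact (d i).2)).2 ?_
      exact fun h => hd (funext fun i => Fin.ext (by rw [← he, h, he]))
    · intro hd
      rw [Finsupp.notMem_support_iff.1 hd, map_zero]
      simp
  have hsurj : Function.Surjective L := by
    intro z
    obtain ⟨x, rfl⟩ := τ.surjective z
    induction x using MvPolynomial.induction_on' with
    | monomial n r =>
      refine ⟨Finsupp.single (fun i => ⟨n i % p, Nat.mod_lt _ (Nat.pos_of_ne_zero hp)⟩)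
        (monomial (Finsupp.equivFunOnFinite.symm fun i => n i / p) r), ?_⟩
      rw [← τ.symm.injective.eq_iff, hL, Finsupp.sum_single_index (by rw [map_zero, zero_mul]),
        expand_monomial, monomial_mul, mul_one, RingEquiv.symm_apply_apply]
      refine congrArg (fun n => monomial n r) (Finsupp.ext fun i => ?_)
      simp [he, Nat.div_add_mod]
    | add x y hx hy =>
      obtain ⟨a, ha⟩ := hx
      obtain ⟨b, hb⟩ := hy
      exact ⟨a + b, by rw [map_add, map_add, ha, hb]⟩
  have : Module.Free P Q := Module.Free.of_equiv (LinearEquiv.ofBijective L ⟨hinj, hsurj⟩)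
  exact (inferInstance : Module.Flat P Q)

end Groth.Agent.RelFrob7
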